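import Groth.Agent.NMP.Basic

/-!
# The mapping property and base change
-/

set_option autoImplicit false

universe u

open CategoryTheory Limits AlgebraicGeometry MonoidalCategory CartesianMonoidalCategory

namespace Groth.Agent.NMP

variable {S S' T T' : Scheme.{u}} {j : S' ⟶ S} {g : T ⟶ S} {g' : T' ⟶ S'} {t : T' ⟶ T}

theorem bijective_baseChange (hsq : IsPullback t g' g j) (N : Over S) (Y : Over S')
    (h : Function.Bijective (Restr (Over.mk g) N (Over.mk (Y.hom ≫ j)))) :
    Function.Bijective (Restr (Over.mk g') ((Over.pullback j).obj N) Y) := by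
  have hcond : (pullback.fst (Y.hom ≫ j) g ≫ Y.hom) ≫ j = pullback.snd (Y.hom ≫ j) g ≫ g := by
    rw [Category.assoc]; exact pullback.condition
  let e : pullback (Y.hom ≫ j) g ⟶ pullback Y.hom g' :=
    pullback.lift (pullback.fst _ _) (hsq.lift _ _ hcond.symm) (hsq.lift_snd _ _ _).symm
  have he1 : e ≫ pullback.fst _ _ = pullback.fst _ _ := pullback.lift_fst _ _ _
  let e' : pullback Y.hom g' ⟶ pullback (Y.hom ≫ j) g :=
    pullback.lift (pullback.fst _ _) (pullback.snd _ _ ≫ t)
      (by rw [pullback.condition_assoc, Category.assoc, hsq.w])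
  have he'e : e' ≫ e = 𝟙 _ := by
    apply pullback.hom_ext
    · rw [Category.assoc, he1, pullback.lift_fst, Category.id_comp]
    · rw [Category.assoc, pullback.lift_snd, Category.id_comp]
      apply hsq.hom_ext
      · rw [Category.assoc, hsq.lift_fst, pullback.lift_snd]
      · rw [Category.assoc, hsq.lift_snd, pullback.lift_fst_assoc, pullback.condition]
  constructor
  · intro g₁ g₂ h12
    have h12' : pullback.fst Y.hom g' ≫ g₁.left = pullback.fst Y.hom g' ≫ g₂.left :=
      congrArg (fun k => Over.Hom.left k) h12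
    let k : (Y ⟶ (Over.pullback j).obj N) → (Over.mk (Y.hom ≫ j) ⟶ N) := fun a =>
      Over.homMk (a.left ≫ pullback.fst N.hom j) (by
        show (a.left ≫ pullback.fst N.hom j) ≫ N.hom = Y.hom ≫ j
        rw [Category.assoc, pullback.condition, ← Category.assoc]
        exact congrArg (· ≫ j) (Over.w a))
    have hk : k g₁ = k g₂ := h.1 (Over.OverMorphism.ext (by
      show pullback.fst (Y.hom ≫ j) g ≫ g₁.left ≫ _ = pullback.fst (Y.hom ≫ j) g ≫ g₂.left ≫ _
      rw [← he1]
      simp only [Category.assoc]
      rw [reassoc_of% h12']))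
    apply Over.OverMorphism.ext
    apply pullback.hom_ext
    · exact congrArg (fun a => Over.Hom.left a) hk
    · exact (Over.w g₁).trans (Over.w g₂).symm
  · intro k
    have hk : k.left ≫ pullback.snd N.hom j = pullback.fst Y.hom g' ≫ Y.hom := Over.w k
    obtain ⟨a, ha⟩ := h.2 (Over.homMk (e ≫ k.left ≫ pullback.fst N.hom j) (by
      show (e ≫ k.left ≫ pullback.fst N.hom j) ≫ N.hom = pullback.fst (Y.hom ≫ j) g ≫ Y.hom ≫ j
      rw [Category.assoc, Category.assoc, pullback.condition, reassoc_of% hk, reassoc_of% he1]))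
    have ha' : pullback.fst (Y.hom ≫ j) g ≫ a.left = e ≫ k.left ≫ pullback.fst N.hom j :=
      congrArg (fun b => Over.Hom.left b) ha
    refine ⟨Over.homMk (pullback.lift a.left Y.hom (Over.w a)) (pullback.lift_snd _ _ _), ?_⟩
    apply Over.OverMorphism.ext
    apply pullback.hom_ext
    · show (pullback.fst Y.hom g' ≫ pullback.lift a.left Y.hom _) ≫ pullback.fst N.hom j = _
      rw [Category.assoc, pullback.lift_fst]
      calc pullback.fst Y.hom g' ≫ a.left = e' ≫ pullback.fst (Y.hom ≫ j) g ≫ a.left := by
            rw [pullback.lift_fst_assoc]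
        _ = k.left ≫ pullback.fst N.hom j := by rw [ha', reassoc_of% he'e]
    · show (pullback.fst Y.hom g' ≫ pullback.lift a.left Y.hom _) ≫ pullback.snd N.hom j = _
      rw [Category.assoc, pullback.lift_snd]
      exact hk.symm

end Groth.Agent.NMP
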