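import Groth.Agent.SchTorsor.Props
import Mathlib.AlgebraicGeometry.Sites.Fpqc
import Mathlib.AlgebraicGeometry.Morphisms.Smooth

/-!
# The mapping property of Neron models, descent along smooth covers, and torsors

For `J` over `S` we say that `G` has the mapping property if `(Y ⟶ G) → (Y ⊗ J ⟶ G)` is bijective for
all smooth `Y`.
-/

set_option autoImplicit false

universe u

open CategoryTheory Limits AlgebraicGeometry MonoidalCategory CartesianMonoidalCategory

open scoped MonObj

namespace Groth.Agent.NMP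

variable {S : Scheme.{u}} {J : Over S}

/-- bijectivity of the restriction to `J` -/
noncomputable abbrev Restr (J G Y : Over S) : (Y ⟶ G) → (Y ⊗ J ⟶ G) := fun g => fst Y J ≫ g

/-- the two forms of the restriction map -/
theorem bijective_pullback_map_iff {S' : Scheme.{u}} (j : S' ⟶ S) (G Y : Over S) :
    Function.Bijective (fun g : Y ⟶ G => (Over.pullback j).map g) ↔
      Function.Bijective (Restr (Over.mk j) G Y) := by
  let Φ : ((Over.pullback j).obj Y ⟶ (Over.pullback j).obj G) ≃ (Y ⊗ Over.mk j ⟶ G) :=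
    { toFun := fun k => Over.homMk (k.left ≫ pullback.fst G.hom j) (by
        show (k.left ≫ pullback.fst G.hom j) ≫ G.hom = pullback.fst Y.hom j ≫ Y.hom
        rw [Category.assoc, pullback.condition, pullback.condition, ← Category.assoc]
        exact congrArg (· ≫ j) (Over.w k))
      invFun := fun k => Over.homMk (pullback.lift k.left (pullback.snd Y.hom j) (by
        have := Over.w k
        rw [this]
        exact pullback.condition)) (pullback.lift_snd _ _ _)
      left_inv := fun k => by
        apply Over.OverMorphism.ext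
        apply pullback.hom_ext
        · exact pullback.lift_fst _ _ _
        · exact (pullback.lift_snd _ _ _).trans (Over.w k).symm
      right_inv := fun k => Over.OverMorphism.ext (pullback.lift_fst _ _ _) }
  have h : Restr (Over.mk j) G Y = Φ ∘ fun g : Y ⟶ G => (Over.pullback j).map g := by
    funext g
    apply Over.OverMorphism.ext
    exact (pullback.lift_fst _ _ _).symm
  rw [h]
  exact (Function.Bijective.of_comp_iff' Φ.bijective _).symm

/-- epimorphisms from fppf covers -/
theorem epi_of_cover {A B : Over S} (p : A ⟶ B) [Flat p.left] [LocallyOfFinitePresentation p.left]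
    [Surjective p.left] {W : Over S} {u v : B ⟶ W} (h : p ≫ u = p ≫ v) : u = v := by
  haveI : EffectiveEpi p.left := inferInstance
  exact Over.OverMorphism.ext ((cancel_epi p.left).1 (congrArg CommaMorphism.left h))

/-- descent of extensions along smooth covers -/
theorem exists_of_cover {P Y Y₁ : Over S}
    (inj : ∀ Z : Over S, Smooth Z.hom → Function.Injective (Restr J P Z))
    [Smooth Y.hom] (π : Y₁ ⟶ Y) [Smooth π.left] [Surjective π.left] (h : Y ⊗ J ⟶ P) (g₁ : Y₁ ⟶ P)
    (hg₁ : fst Y₁ J ≫ g₁ = (π ▷ J) ≫ h)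
    (hepi : ∀ u v : Y ⊗ J ⟶ P, (π ▷ J) ≫ u = (π ▷ J) ≫ v → u = v) :
    ∃ g : Y ⟶ P, fst Y J ≫ g = h := by
  haveI : Smooth Y₁.hom := by rw [← Over.w π]; infer_instance
  have key : ∀ {Z : Scheme.{u}} (a b : Z ⟶ Y₁.left), a ≫ π.left = b ≫ π.left →
      a ≫ g₁.left = b ≫ g₁.left := by
    intro Z a b hab
    let K : Over S := Over.mk (pullback.fst π.left π.left ≫ Y₁.hom)
    haveI : Smooth K.hom := inferInstanceAs (Smooth (pullback.fst π.left π.left ≫ Y₁.hom))
    let k₁ : K ⟶ Y₁ := Over.homMk (pullback.fst π.left π.left) rfl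
    let k₂ : K ⟶ Y₁ := Over.homMk (pullback.snd π.left π.left) (by
      show pullback.snd π.left π.left ≫ Y₁.hom = pullback.fst π.left π.left ≫ Y₁.hom
      rw [← Over.w π, pullback.condition_assoc])
    have hk : k₁ ≫ π = k₂ ≫ π := Over.OverMorphism.ext pullback.condition
    have : k₁ ≫ g₁ = k₂ ≫ g₁ := by
      refine inj K inferInstance ?_
      show fst K J ≫ k₁ ≫ g₁ = fst K J ≫ k₂ ≫ g₁
      rw [← whiskerRight_fst_assoc, ← whiskerRight_fst_assoc, hg₁, ← MonoidalCategory.comp_whiskerRight_assoc,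
        ← MonoidalCategory.comp_whiskerRight_assoc, hk]
    have h' := congrArg (fun t => pullback.lift a b hab ≫ CommaMorphism.left t) this
    exact ((pullback.lift_fst_assoc a b hab g₁.left).symm.trans h').trans (pullback.lift_snd_assoc a b hab g₁.left)
  haveI : EffectiveEpi π.left := inferInstance
  let g := EffectiveEpi.desc π.left g₁.left key
  have hg : π.left ≫ g = g₁.left := EffectiveEpi.fac π.left g₁.left key
  let gY : Y ⟶ P := Over.homMk g (by rw [← cancel_epi π.left, reassoc_of% hg, Over.w, Over.w])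
  have hgY : π ≫ gY = g₁ := Over.OverMorphism.ext hg
  refine ⟨gY, hepi _ _ ?_⟩
  rw [whiskerRight_fst_assoc, hgY, hg₁]

section Torsor

variable {G P : Over S} [GrpObj G] {a : AlgGrp.Action G P} (ha : NonAbH1.IsPseudoTorsorSch a)

include ha in
theorem injective_torsor (Y : Over S) (hG : Function.Injective (Restr J G Y)) :
    Function.Injective (Restr J P Y) := by
  intro g₁ g₂ h
  obtain ⟨d, hd⟩ := SchTorsor.exists_div ha g₁ g₂
  have h' : lift (fst Y J ≫ d) (fst Y J ≫ g₂) ≫ a.act = lift (1 : Y ⊗ J ⟶ G) (fst Y J ≫ g₂) ≫ a.act := by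
    rw [SchTorsor.one_act_pt, ← comp_lift, Category.assoc, hd]
    exact h
  have hd1 : d = 1 := hG (by
    show fst Y J ≫ d = fst Y J ≫ 1
    rw [MonObj.comp_one]
    exact SchTorsor.act_free ha h')
  rw [← hd, hd1, SchTorsor.one_act_pt]

include ha in
theorem bijective_torsor [Smooth P.hom] [Surjective P.hom]
    (hG : ∀ Y : Over S, Smooth Y.hom → Function.Bijective (Restr J G Y))
    (Y : Over S) (hY : Smooth Y.hom) : Function.Bijective (Restr J P Y) := by
  haveI := hY
  refine ⟨injective_torsor ha Y (hG Y hY).1, fun h => ?_⟩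
  let π : Y ⊗ P ⟶ Y := fst Y P
  haveI : Smooth π.left := inferInstanceAs (Smooth (pullback.fst Y.hom P.hom))
  haveI : Surjective π.left := inferInstanceAs (Surjective (pullback.fst Y.hom P.hom))
  haveI : Smooth (Y ⊗ P).hom := inferInstanceAs (Smooth (pullback.fst Y.hom P.hom ≫ Y.hom))
  obtain ⟨d, hd⟩ := SchTorsor.exists_div ha ((π ▷ J) ≫ h) (fst (Y ⊗ P) J ≫ snd Y P)
  obtain ⟨δ, rfl⟩ := (hG (Y ⊗ P) inferInstance).2 d
  refine exists_of_cover (fun Z hZ => injective_torsor ha Z (hG Z hZ).1) π h
    (lift δ (snd Y P) ≫ a.act) ?_ ?_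
  · rw [← Category.assoc, comp_lift]
    exact hd
  · intro u v huv
    let σ : (Y ⊗ J) ⊗ P ⟶ (Y ⊗ P) ⊗ J :=
      lift (lift (fst (Y ⊗ J) P ≫ fst Y J) (snd (Y ⊗ J) P)) (fst (Y ⊗ J) P ≫ snd Y J)
    have hσ : σ ≫ (π ▷ J) = fst (Y ⊗ J) P := by
      apply CartesianMonoidalCategory.hom_ext <;> simp [σ, π]
    haveI : Flat (fst (Y ⊗ J) P).left := inferInstanceAs (Flat (pullback.fst (Y ⊗ J).hom P.hom))
    haveI : LocallyOfFinitePresentation (fst (Y ⊗ J) P).left :=
      inferInstanceAs (LocallyOfFinitePresentation (pullback.fst (Y ⊗ J).hom P.hom))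
    haveI : Surjective (fst (Y ⊗ J) P).left := inferInstanceAs (Surjective (pullback.fst (Y ⊗ J).hom P.hom))
    refine epi_of_cover (fst (Y ⊗ J) P) ?_
    rw [← hσ, Category.assoc, huv, Category.assoc]

end Torsor

end Groth.Agent.NMP
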