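import Groth.Agent.NMP.Basic
import Groth.Prelude.Def_AlgGrp
import Mathlib.AlgebraicGeometry.Morphisms.LocalFlatDescent

/-!
# The mapping property for extensions
-/

set_option autoImplicit false

universe u

open CategoryTheory Limits AlgebraicGeometry MonoidalCategory CartesianMonoidalCategory

open scoped MonObj

namespace Groth.Agent.NMP

variable {S : Scheme.{u}} [IsLocallyNoetherian S] {J : Over S}
  {G' G G'' : Over S} [GrpObj G'] [GrpObj G] [GrpObj G''] (i : G' ⟶ G) (q : G ⟶ G'')
  [IsMonHom i] [IsMonHom q] (hker : AlgGrp.IsKernel i q)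

omit [IsLocallyNoetherian S] [IsMonHom q] in
include hker in
/-- morphisms into the middle killed by `q` come from the kernel -/
theorem exists_ker_lift {T : Over S} (z : T ⟶ G) (hz : z ≫ q = 1) : ∃ t : T ⟶ G', t ≫ i = z :=
  ⟨hker.lift z (toUnit T) (by rw [hz, Hom.one_def]), hker.lift_fst _ _ _⟩

omit [IsLocallyNoetherian S] in
include hker in
theorem ker_comp {T : Over S} (t : T ⟶ G') : t ≫ i ≫ q = 1 := by
  have h : i ≫ q = (1 : G' ⟶ G'') := hker.w
  rw [h, MonObj.comp_one]

omit [IsLocallyNoetherian S] in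
include hker in
theorem ker_mono {T : Over S} (a b : T ⟶ G') (h : a ≫ i = b ≫ i) : a = b :=
  hker.hom_ext h (toUnit_unique _ _)

omit [IsLocallyNoetherian S] in
include hker in
/-- the torsor square of a kernel -/
theorem isPullback_ker : IsPullback (fst G G') (fst G G' * (snd G G' ≫ i)) q q := by
  refine ⟨⟨by rw [MonObj.mul_comp, Category.assoc, ker_comp i q hker, _root_.mul_one]⟩,
    ⟨PullbackCone.IsLimit.mk _
    (fun s => lift s.fst (exists_ker_lift i q hker (s.fst⁻¹ * s.snd)
      (by rw [MonObj.mul_comp, GrpObj.inv_comp, s.condition, inv_mul_cancel])).choose)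
    (fun s => lift_fst _ _) (fun s => ?_) (fun s m h1 h2 => ?_)⟩⟩
  · rw [MonObj.comp_mul, lift_fst, lift_snd_assoc]
    refine (congrArg (s.fst * ·) (exists_ker_lift i q hker (s.fst⁻¹ * s.snd)
      (by rw [MonObj.mul_comp, GrpObj.inv_comp, s.condition, inv_mul_cancel])).choose_spec).trans ?_
    rw [mul_inv_cancel_left]
  · refine CartesianMonoidalCategory.hom_ext _ _ (by rw [lift_fst]; exact h1) ?_
    rw [lift_snd]
    refine ker_mono i q hker _ _ ?_
    refine Eq.trans ?_ (exists_ker_lift i q hker (s.fst⁻¹ * s.snd)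
      (by rw [MonObj.mul_comp, GrpObj.inv_comp, s.condition, inv_mul_cancel])).choose_spec.symm
    rw [← h1, ← h2, MonObj.comp_mul, inv_mul_cancel_left, Category.assoc]

variable [Smooth G'.hom] [Smooth G.hom] [Smooth G''.hom] [Flat q.left] [Surjective q.left]

include hker in
theorem smooth_quot : Smooth q.left := by
  haveI : LocallyOfFiniteType q.left := by
    haveI : LocallyOfFiniteType (q.left ≫ G''.hom) := by rw [Over.w q]; infer_instance
    exact locallyOfFiniteType_of_comp q.left G''.hom
  haveI : IsLocallyNoetherian G''.left := LocallyOfFiniteType.isLocallyNoetherian G''.hom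
  haveI : LocallyOfFinitePresentation q.left := inferInstance
  have h := (isPullback_ker i q hker).map (Over.forget _)
  have h' : Smooth (pullback.fst q.left q.left) := by
    have e : pullback.fst q.left q.left = h.isoPullback.inv ≫ (fst G G').left :=
      h.isoPullback_inv_fst.symm
    haveI : Smooth (fst G G').left := inferInstanceAs (Smooth (pullback.fst G.hom G'.hom))
    rw [e]
    exact (MorphismProperty.cancel_left_of_respectsIso @Smooth h.isoPullback.inv _).2 ‹Smooth (fst G G').left›
  exact MorphismProperty.of_pullback_fst_of_descendsAlong (P := @Smooth)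
    (Q := (@Surjective ⊓ @Flat ⊓ @LocallyOfFinitePresentation : MorphismProperty Scheme.{u}))
    ⟨⟨inferInstance, inferInstance⟩, inferInstance⟩ h'

include hker in
theorem injective_extension (Y : Over S) (hG' : Function.Injective (Restr J G' Y))
    (hG'' : Function.Injective (Restr J G'' Y)) : Function.Injective (Restr J G Y) := by
  intro g₁ g₂ h
  have hq : g₁ ≫ q = g₂ ≫ q := hG'' (by
    show fst Y J ≫ g₁ ≫ q = fst Y J ≫ g₂ ≫ q
    rw [← Category.assoc, show fst Y J ≫ g₁ = fst Y J ≫ g₂ from h, Category.assoc])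
  obtain ⟨d, hd⟩ := exists_ker_lift i q hker (g₁⁻¹ * g₂)
    (by rw [MonObj.mul_comp, GrpObj.inv_comp, hq, inv_mul_cancel])
  have hd1 : d = 1 := hG' (ker_mono i q hker _ _ (by
    show (fst Y J ≫ d) ≫ i = (fst Y J ≫ 1) ≫ i
    rw [MonObj.comp_one, MonObj.one_comp, Category.assoc, hd, MonObj.comp_mul, GrpObj.comp_inv,
      show fst Y J ≫ g₁ = fst Y J ≫ g₂ from h, inv_mul_cancel]))
  rw [hd1, MonObj.one_comp] at hd
  exact (inv_mul_eq_one.1 hd.symm)

include hker in
theorem bijective_extension (hG' : ∀ Y : Over S, Smooth Y.hom → Function.Bijective (Restr J G' Y))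
    (hG'' : ∀ Y : Over S, Smooth Y.hom → Function.Bijective (Restr J G'' Y))
    (Y : Over S) (hY : Smooth Y.hom) : Function.Bijective (Restr J G Y) := by
  haveI := hY
  haveI := smooth_quot i q hker
  refine ⟨injective_extension i q hker Y (hG' Y hY).1 (hG'' Y hY).1, fun h => ?_⟩
  obtain ⟨g'', hg''⟩ := (hG'' Y hY).2 (h ≫ q)
  replace hg'' : fst Y J ≫ g'' = h ≫ q := hg''
  let Y₁ : Over S := Over.mk (pullback.fst g''.left q.left ≫ Y.hom)
  haveI : Smooth Y₁.hom := inferInstanceAs (Smooth (pullback.fst g''.left q.left ≫ Y.hom))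
  let π : Y₁ ⟶ Y := Over.homMk (pullback.fst g''.left q.left) rfl
  haveI : Smooth π.left := inferInstanceAs (Smooth (pullback.fst g''.left q.left))
  haveI : Surjective π.left := inferInstanceAs (Surjective (pullback.fst g''.left q.left))
  let t : Y₁ ⟶ G := Over.homMk (pullback.snd g''.left q.left) (by
    show pullback.snd g''.left q.left ≫ G.hom = pullback.fst g''.left q.left ≫ Y.hom
    rw [← Over.w q, ← pullback.condition_assoc, Over.w g''])
  have ht : π ≫ g'' = t ≫ q := Over.OverMorphism.ext pullback.condition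
  obtain ⟨d, hd⟩ := exists_ker_lift i q hker ((fst Y₁ J ≫ t)⁻¹ * ((π ▷ J) ≫ h)) (by
    rw [MonObj.mul_comp, GrpObj.inv_comp, Category.assoc, Category.assoc, ← ht, ← hg'',
      whiskerRight_fst_assoc, inv_mul_cancel])
  obtain ⟨δ, rfl⟩ := (hG' Y₁ inferInstance).2 d
  refine exists_of_cover (fun Z hZ => injective_extension i q hker Z (hG' Z hZ).1 (hG'' Z hZ).1) π h
    (t * (δ ≫ i)) ?_ ?_
  · rw [MonObj.comp_mul, ← Category.assoc (fst Y₁ J) δ, show (fst Y₁ J ≫ δ) ≫ i = _ from hd,
      mul_inv_cancel_left]
  · intro u v huv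
    haveI : Smooth (π ▷ J).left := by
      have hsq : IsPullback (fst Y₁ J) (π ▷ J) π (fst Y J) := by
        refine ⟨⟨(whiskerRight_fst _ _).symm⟩, ⟨PullbackCone.IsLimit.mk _
          (fun s => lift s.fst (s.snd ≫ snd Y J)) (fun s => lift_fst _ _) (fun s => ?_)
          (fun s m h1 h2 => ?_)⟩⟩
        · apply CartesianMonoidalCategory.hom_ext
          · rw [Category.assoc, whiskerRight_fst, lift_fst_assoc, s.condition]
          · rw [Category.assoc, whiskerRight_snd, lift_snd]
        · apply CartesianMonoidalCategory.hom_ext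
          · rw [lift_fst, h1]
          · rw [lift_snd, ← h2, Category.assoc, whiskerRight_snd]
      exact MorphismProperty.of_isPullback (P := @Smooth) (hsq.map (Over.forget _)) ‹Smooth π.left›
    haveI : Surjective (π ▷ J).left := by
      have hsq : IsPullback (fst Y₁ J) (π ▷ J) π (fst Y J) := by
        refine ⟨⟨(whiskerRight_fst _ _).symm⟩, ⟨PullbackCone.IsLimit.mk _
          (fun s => lift s.fst (s.snd ≫ snd Y J)) (fun s => lift_fst _ _) (fun s => ?_)
          (fun s m h1 h2 => ?_)⟩⟩
        · apply CartesianMonoidalCategory.hom_ext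
          · rw [Category.assoc, whiskerRight_fst, lift_fst_assoc, s.condition]
          · rw [Category.assoc, whiskerRight_snd, lift_snd]
        · apply CartesianMonoidalCategory.hom_ext
          · rw [lift_fst, h1]
          · rw [lift_snd, ← h2, Category.assoc, whiskerRight_snd]
      exact MorphismProperty.of_isPullback (P := @Surjective) (hsq.map (Over.forget _)) ‹Surjective π.left›
    exact epi_of_cover (π ▷ J) huv

end Groth.Agent.NMP
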